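import Groth.Agent.LC.GorRing
import Groth.Agent.LC.GorFlat
import Groth.Agent.CAlgGlobalDim.Basic
import Mathlib

/-!
# Self-injectivity of Artinian Gorenstein rings
-/

set_option autoImplicit false

universe u

open TensorProduct

namespace Groth.Agent.TorsionlessLib

variable (T : Type u) [CommRing T]

/-- Self-injectivity can be checked at the maximal ideals. -/
theorem baer_of_atPrime [IsNoetherianRing T]
    (h : ∀ (m : Ideal T) [m.IsMaximal], Module.Injective (Localization.AtPrime m) (Localization.AtPrime m)) :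
    Module.Baer T T := by
  classical
  intro I φ
  obtain ⟨G, hG⟩ := IsNoetherian.noetherian (R := T) (M := T) I
  let J : Ideal T :=
    { carrier := {a | ∃ c : T, ∀ x : I, a * φ x = (x : T) * c}
      zero_mem' := ⟨0, fun x => by simp⟩
      add_mem' := fun ⟨c, hc⟩ ⟨c', hc'⟩ => ⟨c + c', fun x => by rw [add_mul, hc, hc', mul_add]⟩
      smul_mem' := fun r _ ⟨c, hc⟩ => ⟨r * c, fun x => by rw [smul_eq_mul, mul_assoc, hc]; ring⟩ }
  suffices hJ : J = ⊤ by
    obtain ⟨c, hc⟩ : (1 : T) ∈ J := hJ ▸ Submodule.mem_top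
    refine ⟨LinearMap.toSpanSingleton T T c, fun x hx => ?_⟩
    rw [LinearMap.toSpanSingleton_apply, smul_eq_mul, ← hc ⟨x, hx⟩, one_mul]
  by_contra hJ
  obtain ⟨m, hm, hle⟩ := Ideal.exists_le_maximal J hJ
  haveI := hm
  let L := Localization.AtPrime m
  haveI : Module.Flat T L := IsLocalization.flat L m.primeCompl
  haveI := h m
  let g : I →ₗ[T] L := Algebra.linearMap T L ∘ₗ φ
  let i : L ⊗[T] I →ₗ[L] L ⊗[T] T := I.subtype.baseChange L
  have hi : Function.Injective i := Module.Flat.lTensor_preserves_injective_linearMap I.subtype I.injective_subtype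
  obtain ⟨e, he⟩ := Module.Injective.out (R := L) (Q := L) i hi (g.liftBaseChange L)
  have he' : ∀ x : I, algebraMap T L (φ x) = algebraMap T L (x : T) * e (1 ⊗ₜ 1) := by
    intro x
    have h1 := he (1 ⊗ₜ x)
    rw [LinearMap.liftBaseChange_tmul, one_smul] at h1
    have h2 : (i (1 ⊗ₜ x) : L ⊗[T] T) = algebraMap T L (x : T) • ((1 : L) ⊗ₜ[T] (1 : T)) := by
      rw [LinearMap.baseChange_tmul, TensorProduct.smul_tmul', smul_eq_mul, mul_one]
      conv_rhs => rw [Algebra.algebraMap_eq_smul_one]
      rw [TensorProduct.smul_tmul, smul_eq_mul, mul_one]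
      rfl
    rw [h2, map_smul, smul_eq_mul] at h1
    exact h1.symm
  obtain ⟨a, s, hs⟩ := IsLocalization.exists_mk'_eq m.primeCompl (e (1 ⊗ₜ 1))
  have hu : ∀ x : I, ∃ u : m.primeCompl, (u : T) * ((s : T) * φ x) = (u : T) * ((x : T) * a) := fun x => by
    apply (IsLocalization.eq_iff_exists m.primeCompl L).1
    rw [map_mul, map_mul, he', ← hs, ← IsLocalization.mk'_spec L a s]
    ring
  choose u hu using hu
  have hGI : ∀ y ∈ G, y ∈ I := fun y hy => hG ▸ Submodule.subset_span hy
  let U : m.primeCompl := ∏ y ∈ G.attach, u ⟨y.1, hGI _ y.2⟩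
  have hmem : (U : T) * (s : T) ∈ J := by
    refine ⟨(U : T) * a, fun x => ?_⟩
    have key : ∀ (x : T) (hx : x ∈ Submodule.span T (G : Set T)) (hx' : x ∈ I),
        (U : T) * (s : T) * φ ⟨x, hx'⟩ = x * ((U : T) * a) := by
      intro x hx
      induction hx using Submodule.span_induction with
      | mem y hy =>
        intro hy'
        obtain ⟨w, hw⟩ := Finset.dvd_prod_of_mem (fun y : {y // y ∈ G} => u ⟨y.1, hGI _ y.2⟩) (Finset.mem_attach G ⟨y, hy⟩)
        have hU : (U : T) = (u ⟨y, hy'⟩ : T) * (w : T) := congrArg Subtype.val hw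
        have := hu ⟨y, hy'⟩
        rw [hU]
        linear_combination (w : T) * this
      | zero => intro _; rw [show (⟨0, _⟩ : I) = 0 from rfl, map_zero, mul_zero, zero_mul]
      | add y z hy hz ihy ihz =>
        intro hx'
        have hy' : y ∈ I := hG ▸ hy
        have hz' : z ∈ I := hG ▸ hz
        rw [show (⟨y + z, hx'⟩ : I) = ⟨y, hy'⟩ + ⟨z, hz'⟩ from rfl, map_add, mul_add, ihy, ihz, add_mul]
      | smul r y hy ih =>
        intro hx'
        have hy' : y ∈ I := hG ▸ hy
        rw [show (⟨r • y, hx'⟩ : I) = r • ⟨y, hy'⟩ from rfl, map_smul, smul_eq_mul, smul_eq_mul, mul_left_comm, ih, mul_assoc]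
    exact key x (hG.symm ▸ x.2) x.2
  exact (U * s).2 (hle hmem)

/-- An Artinian Gorenstein ring is self-injective. -/
theorem injective_self [LocCoh.IsGorensteinRing T] [IsArtinianRing T] : Module.Injective T T := by
  refine (baer_of_atPrime T fun m hm => ?_).injective
  haveI := LocCoh.IsGorensteinRing.isGorensteinLocalRing_localization (A := T) m
  obtain ⟨d, hd, -, hv⟩ := LC.gorenstein_basic (R := Localization.AtPrime m)
  haveI : IsArtinianRing (Localization.AtPrime m) := IsArtinianRing.localization_artinian m.primeCompl _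
  have h0 : ringKrullDim (Localization.AtPrime m) ≤ (0 : ℕ) :=
    Ring.krullDimLE_iff.1 (isArtinianRing_iff_krullDimLE_zero.1 inferInstance)
  obtain rfl : d = 0 := by rw [hd] at h0; exact Nat.le_zero.1 (by exact_mod_cast h0)
  exact (CAlgGlobalDim.baer_of_ext_one (ModuleCat.of (Localization.AtPrime m) (Localization.AtPrime m))
    fun I => hv (Localization.AtPrime m ⧸ I) 1 Nat.one_pos).injective

end Groth.Agent.TorsionlessLib
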