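import Groth.Agent.TorsionlessLib.SelfInjective
import Mathlib

/-!
# Torsionless and reflexive modules over finite free reduced algebras over a principal ideal domain
-/

set_option autoImplicit false

universe u

open scoped nonZeroDivisors

namespace Groth.Agent.TorsionlessLib

variable {Λ : Type u} [CommRing Λ] [IsDomain Λ] [IsPrincipalIdealRing Λ]
  {S : Type u} [CommRing S] [Algebra Λ S] [Module.Finite Λ S] [Module.Free Λ S]

/-- A torsionless finite module is free over the base. -/
theorem free_of_eval_injective (M : Type u) [AddCommGroup M] [Module S M] [Module Λ M] [IsScalarTower Λ S M]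
    [Module.Finite S M] (h : Function.Injective (Module.Dual.eval S M)) : Module.Free Λ M := by
  classical
  haveI : Module.Finite Λ M := Module.Finite.trans S M
  haveI : IsNoetherianRing S := IsNoetherianRing.of_finite Λ S
  haveI : IsNoetherian S M := isNoetherian_of_isNoetherianRing_of_finite S M
  haveI : Module.IsTorsionFree Λ M := by
    refine Module.isTorsionFree_iff_smul_eq_zero.2 fun c x hcx => or_iff_not_imp_left.2 fun hc => h ?_
    rw [map_zero]
    refine LinearMap.ext fun φ => ?_
    show φ x = 0
    have h1 : c • φ x = 0 := by rw [← LinearMap.map_smul_of_tower φ c x, hcx, map_zero]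
    exact (smul_eq_zero.1 h1).resolve_left hc
  exact Module.free_of_finite_type_torsion_free'

/-- A module free over the base is torsionless, for a reduced algebra. -/
theorem eval_injective_of_free [IsReduced S] (M : Type u) [AddCommGroup M] [Module S M] [Module Λ M]
    [IsScalarTower Λ S M] [Module.Finite S M] [Module.Free Λ M] : Function.Injective (Module.Dual.eval S M) := by
  haveI : IsNoetherianRing S := IsNoetherianRing.of_finite Λ S
  haveI : Module.FinitePresentation S M := Module.finitePresentation_of_finite S M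
  let G : Submonoid S := Algebra.algebraMapSubmonoid S Λ⁰
  let L := Localization G
  haveI : IsArtinianRing L := IsArtinianRing.of_finite (FractionRing Λ) L
  haveI : IsSemisimpleRing L := IsArtinianRing.isSemisimpleRing_of_isReduced L
  let ML := LocalizedModule G M
  haveI : Module.Projective L ML := Module.projective_of_isSemisimpleRing L ML
  rw [injective_iff_map_eq_zero]
  intro x hx
  by_contra hne
  have hmx : LocalizedModule.mkLinearMap G M x ≠ 0 := by
    intro h0
    obtain ⟨⟨_, c, hc, rfl⟩, ht⟩ := (IsLocalizedModule.eq_zero_iff G _).1 h0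
    change algebraMap Λ S c • x = 0 at ht
    rw [algebraMap_smul] at ht
    exact hne ((smul_eq_zero.1 ht).resolve_left (nonZeroDivisors.ne_zero hc))
  obtain ⟨g, hg⟩ := Module.Projective.exists_dual_ne_zero L hmx
  obtain ⟨φ, s, hφ⟩ := Module.FinitePresentation.exists_lift_of_isLocalizedModule G (Algebra.linearMap S L)
    ((g.restrictScalars S) ∘ₗ LocalizedModule.mkLinearMap G M)
  have h1 : algebraMap S L (φ x) = (s : S) • g (LocalizedModule.mkLinearMap G M x) := LinearMap.congr_fun hφ x
  rw [show φ x = 0 from LinearMap.congr_fun hx φ, map_zero, Algebra.smul_def, eq_comm,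
    (IsLocalization.map_units L s).mul_right_eq_zero] at h1
  exact hg h1

/-- Extension of functionals from a submodule of a finite free module with torsion-free quotient. -/
theorem exists_extension [IsReduced S] [LocCoh.IsGorensteinRing S] {n : ℕ} (N : Submodule S (Fin n → S))
    (htf : ∀ c : Λ, c ≠ 0 → ∀ x : Fin n → S, c • x ∈ N → x ∈ N) (φ : N →ₗ[S] S) :
    ∃ ψ : (Fin n → S) →ₗ[S] S, ∀ x : N, ψ x = φ x := by
  classical
  haveI : IsNoetherianRing S := IsNoetherianRing.of_finite Λ S
  haveI : Module.Finite Λ ((N →ₗ[S] S)) := by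
    haveI : Module.Finite S (N →ₗ[S] S) := inferInstance
    exact Module.Finite.trans S _
  let R : Submodule Λ (N →ₗ[S] S) :=
    { carrier := {φ | ∃ ψ : (Fin n → S) →ₗ[S] S, ∀ x : N, ψ x = φ x}
      zero_mem' := ⟨0, fun _ => rfl⟩
      add_mem' := fun ⟨a, ha⟩ ⟨b, hb⟩ => ⟨a + b, fun x => by rw [LinearMap.add_apply, LinearMap.add_apply, ha, hb]⟩
      smul_mem' := fun c _ ⟨a, ha⟩ => ⟨c • a, fun x => by rw [LinearMap.smul_apply, LinearMap.smul_apply, ha]⟩ }
  suffices hR : R = ⊤ by exact (hR ▸ Submodule.mem_top : φ ∈ R)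
  let E := (N →ₗ[S] S) ⧸ R
  suffices hE : (⊤ : Submodule Λ E) = ⊥ by
    refine eq_top_iff.2 fun a _ => (Submodule.Quotient.mk_eq_zero R).1 ?_
    exact (Submodule.eq_bot_iff _).1 hE _ trivial
  -- every maximal ideal of the base
  have key : ∀ m : Ideal Λ, m.IsMaximal → (⊤ : Submodule Λ E) ≤ m • ⊤ := by
    intro m hm
    obtain ⟨l, rfl⟩ := IsPrincipalIdealRing.principal m
    rintro a -
    induction a using Submodule.Quotient.induction_on with
    | _ φ =>
    let I : Ideal S := Ideal.span {algebraMap Λ S l}
    let T := S ⧸ I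
    haveI : IsArtinianRing T := by
      haveI := hm
      letI := Ideal.Quotient.field (Ideal.span {l})
      letI : Algebra (Λ ⧸ Ideal.span {l}) T := Ideal.Quotient.algebraQuotientOfLEComap
        (Ideal.map_le_iff_le_comap.1 (le_of_eq (by rw [Ideal.map_span, Set.image_singleton])))
      haveI : IsScalarTower Λ (Λ ⧸ Ideal.span {l}) T := IsScalarTower.of_algebraMap_eq fun _ => rfl
      haveI : Module.Finite (Λ ⧸ Ideal.span {l}) T := Module.Finite.of_restrictScalars_finite Λ _ _
      exact IsArtinianRing.of_finite (Λ ⧸ Ideal.span {l}) T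
    haveI : LocCoh.IsGorensteinRing T := by
      by_cases hl : l = 0
      · exact LC.gorensteinRing_of_ringEquiv ((RingEquiv.quotientBot S).symm.trans
          (Ideal.quotEquivOfEq (show (⊥ : Ideal S) = I by simp [I, hl]))) inferInstance
      · refine LC.gorensteinRing_of_surjective (Ideal.Quotient.mk I) Ideal.Quotient.mk_surjective
          (f := algebraMap Λ S l) ?_ Ideal.mk_ker
        intro a b hab
        have hab' : l • a = l • b := by rw [Algebra.smul_def, Algebra.smul_def]; exact hab
        exact smul_right_injective S hl hab'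
    haveI : Module.Injective T T := injective_self T
    let π : (Fin n → S) →ₗ[S] (Fin n → T) := (Algebra.linearMap S T).compLeft (Fin n)
    have hker : LinearMap.ker (π ∘ₗ N.subtype) ≤ LinearMap.ker (Algebra.linearMap S T ∘ₗ φ) := by
      intro x hx
      have hdvd : ∀ j, ∃ c : S, (x : Fin n → S) j = algebraMap Λ S l * c := by
        intro j
        obtain ⟨c, hc⟩ := Ideal.mem_span_singleton'.1
          (Ideal.Quotient.eq_zero_iff_mem.1 (congrFun (LinearMap.mem_ker.1 hx) j))
        exact ⟨c, hc.symm.trans (mul_comm _ _)⟩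
      choose c hc using hdvd
      have hxc : (x : Fin n → S) = l • c := funext fun j => by rw [Pi.smul_apply, Algebra.smul_def]; exact hc j
      show Ideal.Quotient.mk I (φ x) = 0
      by_cases hl : l = 0
      · have : x = 0 := Subtype.ext (by rw [hxc, hl, zero_smul]; rfl)
        rw [this, map_zero, map_zero]
      · have hcN : c ∈ N := htf l hl c (hxc ▸ x.2)
        rw [Ideal.Quotient.eq_zero_iff_mem, show x = l • (⟨c, hcN⟩ : N) from Subtype.ext hxc,
          LinearMap.map_smul_of_tower, Algebra.smul_def]
        exact Ideal.mul_mem_right _ _ (Ideal.mem_span_singleton_self _)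
    let P : Submodule T (Fin n → T) :=
      { carrier := Set.range (π ∘ₗ N.subtype)
        zero_mem' := ⟨0, map_zero _⟩
        add_mem' := by rintro _ _ ⟨a, rfl⟩ ⟨b, rfl⟩; exact ⟨a + b, map_add _ _ _⟩
        smul_mem' := by
          rintro t _ ⟨a, rfl⟩
          obtain ⟨t, rfl⟩ := Ideal.Quotient.mk_surjective t
          exact ⟨t • a, map_smul _ t a⟩ }
    choose pre hpre using fun p : P => p.2
    have hwd : ∀ (p : P) (a : N), (π ∘ₗ N.subtype) a = p → Algebra.linearMap S T (φ (pre p)) = Algebra.linearMap S T (φ a) := by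
      intro p a ha
      refine sub_eq_zero.1 ?_
      rw [← map_sub, ← map_sub]
      exact hker (by rw [LinearMap.mem_ker, map_sub, hpre, ha, sub_self])
    let φ' : P →ₗ[T] T :=
      { toFun := fun p => Algebra.linearMap S T (φ (pre p))
        map_add' := fun p q => by
          rw [hwd (p + q) (pre p + pre q) (by rw [map_add, hpre, hpre]; rfl), map_add, map_add]
        map_smul' := fun t p => by
          obtain ⟨t, rfl⟩ := Ideal.Quotient.mk_surjective t
          rw [hwd _ (t • pre p) (by rw [map_smul, hpre]; rfl), map_smul, map_smul]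
          rfl }
    obtain ⟨e, he⟩ := Module.Injective.out (R := T) (Q := T) P.subtype P.injective_subtype φ'
    choose w hw using fun j => Ideal.Quotient.mk_surjective (I := I) (e (Pi.single j 1))
    let ψ : (Fin n → S) →ₗ[S] S := (Pi.basisFun S (Fin n)).constr S w
    have hψ : ∀ v, Ideal.Quotient.mk I (ψ v) = e (π v) := by
      intro v
      have : (Algebra.linearMap S T) ∘ₗ ψ = (e.restrictScalars S) ∘ₗ π := by
        refine (Pi.basisFun S (Fin n)).ext fun j => ?_
        show Ideal.Quotient.mk I (ψ _) = e (π _)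
        rw [Module.Basis.constr_basis, hw, Pi.basisFun_apply]
        congr 1
        funext k
        show _ = Ideal.Quotient.mk I ((Pi.single j (1 : S) : Fin n → S) k)
        rw [Pi.single_apply, Pi.single_apply]
        split_ifs <;> simp
      exact LinearMap.congr_fun this v
    have hmem : ∀ x : N, ∃ c : S, φ x - ψ x = algebraMap Λ S l * c := by
      intro x
      have hp : (π ∘ₗ N.subtype) x ∈ P := ⟨x, rfl⟩
      have h1 : Ideal.Quotient.mk I (φ x) = Ideal.Quotient.mk I (ψ x) := by
        rw [hψ]
        exact ((hwd ⟨_, hp⟩ x rfl).symm.trans (he ⟨_, hp⟩).symm : _)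
      obtain ⟨c, hc⟩ := Ideal.mem_span_singleton'.1 (Ideal.Quotient.eq.1 h1)
      exact ⟨c, by rw [← hc, mul_comm]⟩
    obtain ⟨φ₁, hφ₁⟩ : ∃ φ₁ : N →ₗ[S] S, ∀ x, φ x - ψ x = algebraMap Λ S l * φ₁ x := by
      by_cases hl : l = 0
      · refine ⟨0, fun x => ?_⟩
        obtain ⟨c, hc⟩ := hmem x
        rw [hc, hl, map_zero, zero_mul, LinearMap.zero_apply, mul_zero]
      · choose c hc using hmem
        have hinj : ∀ a b : S, algebraMap Λ S l * a = algebraMap Λ S l * b → a = b := fun a b hab =>
          smul_right_injective S hl (show l • a = l • b by rw [Algebra.smul_def, Algebra.smul_def]; exact hab)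
        exact ⟨{ toFun := c
                 map_add' := fun a b => hinj _ _ (by
                   rw [mul_add, ← hc, ← hc, ← hc, map_add, Submodule.coe_add, map_add]; ring)
                 map_smul' := fun t a => hinj _ _ (by
                   rw [RingHom.id_apply, smul_eq_mul, mul_left_comm, ← hc, ← hc, map_smul, Submodule.coe_smul,
                     map_smul, smul_eq_mul, smul_eq_mul]; ring) }, hc⟩
    have hin : φ - l • φ₁ ∈ R := ⟨ψ, fun x => by
      rw [LinearMap.sub_apply, LinearMap.smul_apply, Algebra.smul_def, ← hφ₁]; ring⟩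
    rw [(Submodule.Quotient.eq R).2 hin, Submodule.Quotient.mk_smul]
    exact Submodule.smul_mem_smul (Ideal.mem_span_singleton_self l) trivial
  -- Nakayama
  by_contra hne
  have hJ : Module.annihilator Λ E ≠ ⊤ := fun hJ => hne (eq_bot_iff.2 fun a _ => by
    have := Module.mem_annihilator.1 (hJ ▸ Submodule.mem_top : (1 : Λ) ∈ Module.annihilator Λ E) a
    simpa using this)
  obtain ⟨m, hm, hle⟩ := Ideal.exists_le_maximal _ hJ
  obtain ⟨r, hr, hr0⟩ := Submodule.exists_sub_one_mem_and_smul_eq_zero_of_fg_of_le_smul m ⊤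
    (Module.Finite.fg_top) (key m hm)
  have hrm : r ∈ m := hle (Module.mem_annihilator.2 fun a => hr0 a trivial)
  exact hm.ne_top ((Ideal.eq_top_iff_one m).2 (by simpa using sub_mem hrm hr))

/-- A module free over the base is reflexive, for a reduced Gorenstein algebra. -/
theorem isReflexive_of_free [IsReduced S] [LocCoh.IsGorensteinRing S] (M : Type u) [AddCommGroup M] [Module S M]
    [Module Λ M] [IsScalarTower Λ S M] [Module.Finite S M] [Module.Free Λ M] : Module.IsReflexive S M := by
  refine ⟨eval_injective_of_free (Λ := Λ) M, fun y => ?_⟩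
  obtain ⟨k, p, hp⟩ := Module.Finite.exists_fin' S M
  let dd : Module.Dual S (Fin k → S) ≃ₗ[S] (Fin k → S) := ((Pi.basisFun S (Fin k)).toDualEquiv).symm
  let i : Module.Dual S M →ₗ[S] (Fin k → S) := dd.toLinearMap ∘ₗ p.dualMap
  have hi : Function.Injective i := dd.injective.comp (LinearMap.dualMap_injective_of_surjective hp)
  let ei := LinearEquiv.ofInjective i hi
  have htf : ∀ c : Λ, c ≠ 0 → ∀ x : Fin k → S, c • x ∈ LinearMap.range i → x ∈ LinearMap.range i := by
    intro c hc x hx
    obtain ⟨φ, hφ⟩ := hx
    have h1 : dd.symm (c • x) = φ ∘ₗ p := by rw [← hφ]; exact dd.symm_apply_apply _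
    rw [show dd.symm (c • x) = c • dd.symm x from dd.symm.toLinearMap.map_smul_of_tower c x] at h1
    have hle : LinearMap.ker p ≤ LinearMap.ker (dd.symm x) := fun v hv => by
      have h2 := LinearMap.congr_fun h1 v
      rw [LinearMap.comp_apply, LinearMap.mem_ker.1 hv, map_zero] at h2
      exact LinearMap.mem_ker.2 ((smul_eq_zero.1 (h2 : c • dd.symm x v = 0)).resolve_left hc)
    refine ⟨(LinearMap.ker p).liftQ (dd.symm x) hle ∘ₗ (LinearMap.quotKerEquivOfSurjective p hp).symm.toLinearMap, ?_⟩
    show dd _ = x
    conv_rhs => rw [← dd.apply_symm_apply x]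
    congr 1
    refine LinearMap.ext fun z => ?_
    rw [LinearMap.dualMap_apply, LinearMap.comp_apply, LinearEquiv.coe_coe,
      show (LinearMap.quotKerEquivOfSurjective p hp).symm (p z) = Submodule.Quotient.mk z from
        (LinearMap.quotKerEquivOfSurjective p hp).symm_apply_eq.2 rfl, Submodule.liftQ_apply]
  obtain ⟨ψ, hψ⟩ := exists_extension (Λ := Λ) (LinearMap.range i) htf (y ∘ₗ ei.symm.toLinearMap)
  obtain ⟨v, hv⟩ := (Module.bijective_dual_eval S (Fin k → S)).2 (ψ ∘ₗ dd.toLinearMap)
  refine ⟨p v, LinearMap.ext fun φ => ?_⟩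
  show φ (p v) = y φ
  have h3 := LinearMap.congr_fun hv (p.dualMap φ)
  rw [Module.Dual.eval_apply, LinearMap.dualMap_apply] at h3
  rw [h3]
  show ψ (i φ) = y φ
  rw [hψ ⟨i φ, LinearMap.mem_range_self i φ⟩]
  show y (ei.symm (ei φ)) = y φ
  rw [ei.symm_apply_apply]

end Groth.Agent.TorsionlessLib
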